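import Cfsg.Agent.SB.SporD.Gen
import Cfsg.Agent.SB.Mon.BFive
import Cfsg.Agent.S0003

/-!
# S5765, sporadic rows by local counting: tools (helper68)
-/

set_option autoImplicit false

namespace Cfsg.Agent.SB.SporA

open Subgroup Cfsg Cfsg.Agent.H786.FC Cfsg.Agent.SB.Mon

theorem row_of_top {G : Type*} [Group G] [IsSimpleGroup G] (hG : ¬ IsMulCommutative G) (ho : Nat.card (Out G) = 1)
    (h : RowIn (⊤ : Subgroup G)) : Row G := by
  have h1 : InnG G = ⊤ := index_eq_one.1 ho
  let e : G ≃* MulAut G := MulEquiv.ofBijective MulAut.conj ⟨conj_injective hG, MonoidHom.range_eq_top.1 h1⟩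
  apply RowIn.of_map e.symm.toMonoidHom e.symm.injective
  rw [h1, map_top_of_surjective _ e.symm.surjective]
  exact h

variable {A : Type*} [Group A] [Finite A] {S : Subgroup A}

omit [Finite A] in
theorem coatom (hT : AS (⊤ : Subgroup A)) (hS : Group.IsSolvable S) (hm : MaxInv ⊤ S) : IsCoatom S :=
  ⟨fun e => hT.not_le hS e.ge, fun Y hY => (hm Y (inf_le_left.trans hY.le) le_top fun _ hs _ hy =>
    mul_mem (mul_mem (hY.le hs) hy) (inv_mem (hY.le hs))).resolve_right hY.not_ge⟩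

/-- a Hall `{p, q}`-subgroup: an element of order `q` is centralised by a large `p`-subgroup -/
theorem hall_pq (hS : Group.IsSolvable S) {p q k e : ℕ} (hp : p.Prime) (hq : q.Prime) (hpq : p ≠ q)
    (hk : p ^ k ∣ Nat.card S) (h1 : q ∣ Nat.card S) (h2 : ¬ q ^ 2 ∣ Nat.card S) (he : ¬ p ^ (e + 1) ∣ Nat.card S)
    (h : ∀ j ≤ e, p ^ j % q = 1 → j = 0) (hc : ¬ p ∣ q - 1) :
    ∃ x ∈ S, orderOf x = q ∧ p ^ k ∣ Nat.card ↥(S ⊓ centralizer {x}) := by
  have := Fact.mk hp
  have := Fact.mk hq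
  obtain ⟨a, m, hm, e1⟩ := Nat.exists_eq_pow_mul_and_not_dvd (Nat.card_pos (α := S)).ne' p hp.ne_one
  have hcop : ∀ i, (p ^ i).Coprime q := fun i => ((Nat.coprime_primes hp hq).2 hpq).pow_left i
  obtain ⟨n, rfl⟩ : q ∣ m := (hcop a).symm.dvd_of_dvd_mul_left (e1 ▸ h1)
  obtain ⟨H, hH⟩ := S0003.result (G := S) (p ^ a * q) n (by rw [e1, mul_assoc]) (Nat.Coprime.mul_left
    (((Nat.Prime.coprime_iff_not_dvd hp).2 fun h3 => hm (h3.mul_left q)).pow_left a)
    ((Nat.Prime.coprime_iff_not_dvd hq).2 fun h3 => h2 (by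
      rw [e1, pow_two]
      exact (Nat.mul_dvd_mul_left q h3).mul_left _)))
  have ha : a ≤ e := by
    by_contra h3
    exact he ((pow_dvd_pow p (by omega)).trans (Dvd.intro _ e1.symm))
  have hka : k ≤ a := by
    by_contra h3
    have h4 : p ^ a * p ∣ p ^ a * (q * n) := e1 ▸ ((pow_succ p a).symm.dvd.trans (pow_dvd_pow p (by omega))).trans hk
    exact hm (Nat.dvd_of_mul_dvd_mul_left (pow_pos hp.pos a) h4)
  obtain ⟨x, hx⟩ := exists_prime_orderOf_dvd_card' (G := H) q (hH ▸ Dvd.intro_left _ rfl)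
  have hQ : Nat.card (zpowers x) = q := by rw [Nat.card_zpowers, hx]
  have hi : (zpowers x).index = p ^ a := by
    have h3 := (zpowers x).card_mul_index
    rw [hQ, hH, mul_comm] at h3
    exact Nat.eq_of_mul_eq_mul_right hq.pos h3
  let Q : Sylow q H := (IsPGroup.of_card (hQ.trans (pow_one q).symm)).toSylow
    (hi ▸ (Nat.Prime.coprime_iff_not_dvd hq).1 (hcop a).symm)
  obtain ⟨j, hj, h3⟩ := (Nat.dvd_prime_pow hp).1 (hi ▸ Q.card_dvd_index : Nat.card (Sylow q H) ∣ p ^ a)
  have h4 : Nat.card (Sylow q H) % q = 1 := Eq.trans (card_sylow_modEq_one q H) (Nat.mod_eq_of_lt hq.one_lt)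
  rw [h3] at h4
  rw [h j (hj.trans ha) h4, pow_zero] at h3
  have h5 : normalizer ((zpowers x : Subgroup H) : Set H) = ⊤ := index_eq_one.1 (Q.card_eq_index_normalizer.symm.trans h3)
  have h6 : (centralizer ({x} : Set H)).index ∣ q - 1 := by
    have h7 := card_subgroup_dvd_card (zpowers x).normalizerMonoidHom.range
    rw [← index_ker, normalizerMonoidHom_ker, IsCyclic.card_mulAut, hQ, Nat.totient_prime hq] at h7
    have h8 : centralizer ((zpowers x : Subgroup H) : Set H) = centralizer {x} := by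
      rw [zpowers_eq_closure, centralizer_closure]
    rwa [h8, ← relIndex, h5, relIndex_top_right] at h7
  have h7 : p ^ a ∣ Nat.card (centralizer ({x} : Set H)) := by
    have h8 := (centralizer ({x} : Set H)).card_mul_index
    rw [hH] at h8
    exact (((Nat.Prime.coprime_iff_not_dvd hp).2 fun h9 => hc (h9.trans h6)).pow_left a).dvd_of_dvd_mul_right
      (Dvd.intro _ h8.symm)
  refine ⟨x, x.1.2, by rw [orderOf_coe, orderOf_coe, hx], ((pow_dvd_pow p hka).trans h7).trans ?_⟩
  refine card_dvd_of_injective (α := centralizer ({x} : Set H)) (H := ↥(S ⊓ centralizer {((x : S) : A)}))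
    { toFun := fun y => ⟨y.1.1.1, y.1.1.2, mem_centralizer_singleton_iff.2
        (congrArg (fun z : H => (z.1 : A)) (mem_centralizer_singleton_iff.1 y.2))⟩
      map_one' := rfl
      map_mul' := fun _ _ => rfl } fun y z e => ?_
  exact Subtype.ext (Subtype.ext (Subtype.ext (congrArg (fun w : ↥(S ⊓ centralizer {((x : S) : A)}) => (w : A)) e)))

end Cfsg.Agent.SB.SporA
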