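import Cfsg.Agent.SB.SporA.LyOf
import Cfsg.Agent.TAB.Ly.Main
import Cfsg.Agent.S2076

/-!
# S5765, the row `Ly` (helper58)
-/

set_option autoImplicit false

namespace Cfsg.Agent.SB.SporA

open Cfsg

/-- **The row of the Lyons group.** -/
theorem row_Ly (K : Type*) [Group K] (h : Spor.IsoLy K) : Row K := by
  obtain ⟨e⟩ := h
  have := TAB.Ly.fin
  have : IsSimpleGroup Spor.Ly := Cfsg.Agent.Ly.Setup.isSimple_ly
  exact Row.of_equiv e (Ly.row_of S2076.result TAB.Ly.tab)

end Cfsg.Agent.SB.SporA
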