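import Cfsg.Agent.SB.SporA.Tool
import Cfsg.Agent.SP.NegS.J1
import Cfsg.Agent.S2065

/-!
# S5765, the row `J₁` (helper68): the solvable subgroups have order at most 168
-/

set_option autoImplicit false

namespace Cfsg.Agent.SB.SporA.J1

open Subgroup Cfsg Cfsg.Agent.H786.FC Cfsg.Agent.SB.Mon Cfsg.Agent.SP.NegS.J1
open Cfsg.Agent.H305.SepJ1 (G)

attribute [local instance] finG simpG

theorem card_le (S : Subgroup G) (hS : Group.IsSolvable S) : Nat.card S ≤ 168 := by
  by_cases h0 : S = ⊥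
  · rw [h0, card_bot]; norm_num
  obtain ⟨X, -, hX0, hXn, -, -, ⟨r, hr, hXr⟩, -⟩ := exists_min hS h0 le_rfl
    fun s hs y hy => mul_mem (mul_mem hs hy) (inv_mem hs)
  have : Fact r.Prime := ⟨hr⟩
  obtain ⟨⟨z, hz⟩, hz1⟩ := ne_bot_iff_exists_ne_one.1 hX0
  have hz1' : z ≠ 1 := fun e => hz1 (Subtype.ext e)
  have ho : orderOf z = r := orderOf_eq_prime (hXr z hz) hz1'
  obtain ⟨k, hk⟩ := IsPGroup.iff_card.1 (show IsPGroup r X from fun x => ⟨1, Subtype.ext (by simpa using hXr x x.2)⟩)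
  have h1 := card_le_sub hXn hz hz1'
  have h2 : Nat.card ↥(S ⊓ centralizer {z}) ∣ cc r := cent_prime hr ho ▸ card_dvd_of_le inf_le_right
  have h4 := card_dvd X
  have h5 := orderOf_dvd_natCard z
  rw [ho, cardG] at h5
  have ex : ∀ n : ℕ, ¬ r ^ (n + 1) ∣ 175560 → Nat.card X ≤ r ^ n := fun n h =>
    hk ▸ Nat.pow_le_pow_right hr.pos (not_lt.1 fun h6 => h ((pow_dvd_pow r h6).trans (hk ▸ h4)))
  have fin : ∀ a b : ℕ, Nat.card X ≤ a + 1 → Nat.card ↥(S ⊓ centralizer {z}) ≤ b → a * b ≤ 168 →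
      Nat.card S ≤ 168 := fun a b ha hb hab => h1.trans ((Nat.mul_le_mul (by omega) hb).trans hab)
  rcases SP.NegS.J1.prime_cases hr h5 with rfl | rfl | rfl | rfl | rfl | rfl
  · by_cases h6 : Nat.card X ≤ 2
    · exact fin 1 120 h6 (Nat.le_of_dvd (by norm_num) h2) (by norm_num)
    have h7 := ex 3 (by norm_num)
    have h8 := not_dvd_of_fix hXn hz (q := 5) (by norm_num) fun y hy d a b c => by
      rw [ho] at a
      rw [cent_prime (by norm_num) hy] at c
      have h9 : k ≤ 3 := (Nat.pow_le_pow_iff_right (by norm_num)).1 (hk ▸ h7)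
      have h10 : d ∣ 2 := Nat.dvd_gcd (b.trans (show _ ∣ 8 from hk ▸ pow_dvd_pow 2 h9)) c
      have h11 := Nat.dvd_antisymm h10 a
      rw [hk] at h6 ⊢
      interval_cases k <;> omega
    exact fin 7 24 h7 (Nat.le_of_dvd (by norm_num) (((Nat.Prime.coprime_iff_not_dvd (by norm_num)).2
      h8).symm.dvd_of_dvd_mul_right h2)) (by norm_num)
  · exact fin 2 30 (ex 1 (by norm_num)) (Nat.le_of_dvd (by norm_num) h2) (by norm_num)
  · exact fin 4 30 (ex 1 (by norm_num)) (Nat.le_of_dvd (by norm_num) h2) (by norm_num)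
  · exact fin 6 7 (ex 1 (by norm_num)) (Nat.le_of_dvd (by norm_num) h2) (by norm_num)
  · exact fin 10 11 (ex 1 (by norm_num)) (Nat.le_of_dvd (by norm_num) h2) (by norm_num)
  · have h6 : zpowers z = X := eq_of_le_of_card_ge (zpowers_le.2 hz) (by
      rw [Nat.card_zpowers, ho]
      exact ex 1 (by norm_num))
    have h7 := (card_dvd_of_le (le_normalizer_of_conj (h6 ▸ hXn))).trans (norm_dvd hr ho)
    rw [cent_prime hr ho] at h7
    exact (Nat.le_of_dvd (by norm_num) (Nat.dvd_gcd h7 (card_dvd S))).trans (by decide)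

end Cfsg.Agent.SB.SporA.J1

namespace Cfsg.Agent.SB.SporA

open Subgroup Cfsg Cfsg.Agent.SB.Mon Cfsg.Agent.SP.NegS.J1

/-- **The row of the first Janko group.** -/
theorem row_J1 (K : Type*) [Group K] (h : Spor.IsoJ1 K) : Row K := by
  obtain ⟨e⟩ := h
  have := finG
  have := simpG
  refine Row.of_equiv e (row_of_small (n := 168) (c := 120) (m := 1463) (fun hc => ?_) (S2065.result.trans_le one_le_two)
    J1.card_le (fun x hp => ?_) ?_ (by norm_num) ?_ ?_)
  · have h1 : (Nat.card Spor.J1).Prime := by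
      let _ : CommGroup Spor.J1 := { (inferInstance : Group Spor.J1) with mul_comm := hc.is_comm.comm }
      exact IsSimpleGroup.prime_card
    rw [cardG] at h1
    norm_num at h1
  · have h5 := orderOf_dvd_natCard x
    rw [cardG] at h5
    rw [cent_prime hp rfl]
    rcases SP.NegS.J1.prime_cases hp h5 with h | h | h | h | h | h <;> rw [h] <;> decide
  all_goals exact le_of_le_of_eq (by norm_num) cardG.symm

end Cfsg.Agent.SB.SporA
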