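import Cfsg.Agent.SB.SporA.Gen
import Cfsg.Agent.H854.JM.Local
import Cfsg.Agent.H854.Ore.J4Cent
import Cfsg.Agent.H472.EP.J4
import Cfsg.Agent.S2068

/-!
# S5765, the row `J₄` (helper68)

The order of a solvable subgroup is not divisible by 45.  A maximal subgroup `S` with `O₂(S) ≠ 1` is one of four 2-local
subgroups, whose orders are divisible by 45.  Otherwise `S` is small.
-/

set_option autoImplicit false

namespace Cfsg.Agent.SB.SporA.J4

open Subgroup Cfsg Cfsg.Agent.H786.FC Cfsg.Agent.SB.Mon Cfsg.Agent.H854.Ore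
open Cfsg.Agent.H860.JM (cj card_cj normalizer_cj finite_J simple_J isJ nonab card_NEJ)
open Cfsg.Agent.H546.JM (card_J cent_cj card_cent_s card_NX NZ_eq)

local notation "𝒢" => Cfsg.Spor.J4

attribute [local instance] finite_J simple_J

theorem as : AS (⊤ : Subgroup 𝒢) := as_top nonab

theorem cent_of {x : 𝒢} {p n : ℕ} (hx : orderOf x = p)
    (h : ∀ Q : Subgroup 𝒢, Nat.card Q = p → Nat.card (centralizer (Q : Set 𝒢)) = n) :
    Nat.card (centralizer ({x} : Set 𝒢)) = n := by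
  rw [← cent_zpowers]
  exact h _ (by rw [Nat.card_zpowers, hx])

theorem not_dvd {S : Subgroup 𝒢} (hS : Group.IsSolvable S) : ¬ 45 ∣ Nat.card S := by
  intro h
  have h1 := card_subgroup_dvd_card S
  rw [card_J] at h1
  obtain ⟨x, -, h2, h3⟩ := hall_pq hS (p := 3) (q := 5) (k := 2) (e := 3) (by norm_num) (by norm_num) (by norm_num)
    (Dvd.dvd.trans (by norm_num) h) (Dvd.dvd.trans (by norm_num) h) (fun h2 => absurd (h2.trans h1) (by norm_num))
    (fun h2 => absurd (h2.trans h1) (by norm_num)) (by decide) (by norm_num)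
  have h4 := h3.trans (card_dvd_of_le (inf_le_right : S ⊓ centralizer {x} ≤ _))
  rw [cent_of h2 lc.c5] at h4
  exact absurd h4 (by norm_num)

theorem no_two {S Q : Subgroup 𝒢} (hS : Group.IsSolvable S) (hm : IsCoatom S) (h0 : Q ≠ ⊥) (h2 : IsPGroup 2 Q)
    (hle : Q ≤ S) (hn : S ≤ normalizer (Q : Set 𝒢)) : False := by
  have key : ∀ N : Subgroup 𝒢, S ≤ N → 45 ∣ Nat.card N → Nat.card N < 86775571046077562880 → False := by
    intro N h1 h3 h4
    rcases h1.eq_or_lt with rfl | h5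
    · exact not_dvd hS h3
    · rw [hm.2 N h5, card_top, card_J] at h4
      omega
  rcases H854.JM.good_J S hm Q h0 h2 hle hn with ⟨z, hz, h⟩ | ⟨P, ⟨g, rfl⟩, h⟩ | ⟨D, ⟨g, rfl⟩, h⟩ | ⟨Y, hY, h⟩
  · obtain ⟨g, rfl⟩ := isConj_iff.1 hz
    refine key _ h ?_ ?_ <;> rw [cent_cj, card_cj, card_cent_s] <;> norm_num
  · refine key _ h ?_ ?_ <;> rw [normalizer_cj, card_cj, card_NEJ] <;> norm_num
  · refine key _ h ?_ ?_ <;> rw [normalizer_cj, card_cj, ← NZ_eq, H858.MLoc.card_NL card_cent_s] <;> norm_num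
  · refine key _ h ?_ ?_ <;> rw [card_NX hY] <;> norm_num

theorem seven_of {S : Subgroup 𝒢} (h : Nat.card S ≤ 45000000) : Seven ⊤ S := by
  obtain ⟨z, hz⟩ := isJ
  refine seven_two ∅ (fun _ h => h.elim) (a := 0) (n := 45000000) (m₁ := 0) (m₂ := 21799895040) (by simp) h
    (fun _ _ h => h.elim) (fun c _ hp _ => ?_) (by rw [card_top, card_J]; norm_num)
  rw [top_inf_eq]
  by_cases h2 : orderOf c = 2
  · rcases H472.EP.J4.card_cent nonab hz h2 with h3 | h3 <;> omega
  · exact (cent_le hp h2 dvd_rfl).trans (by norm_num)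

theorem rowIn : RowIn (⊤ : Subgroup 𝒢) := by
  intro S hS hm
  obtain ⟨X, x1, x2, x3, -, -, ⟨r, hr, x6⟩, -⟩ := hm.exists_min as hS
  have fr := Fact.mk hr
  have hX : IsPGroup r X := fun x => ⟨1, Subtype.ext (by simpa using x6 x x.2)⟩
  obtain ⟨⟨c, hc⟩, h1⟩ := ne_bot_iff_exists_ne_one.1 x2
  have ho : orderOf c = r := orderOf_eq_prime (x6 c hc) fun e => h1 (Subtype.ext e)
  obtain ⟨k, hk⟩ := IsPGroup.iff_card.1 hX
  have hd := card_subgroup_dvd_card X
  have hr' := orderOf_dvd_natCard c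
  rw [card_J] at hd hr'
  rw [ho] at hr'
  have key : ∀ e m, ¬ r ^ (e + 1) ∣ 86775571046077562880 → Nat.card ↥(S ⊓ centralizer {c}) ≤ m → r ^ e * m ≤ 45000000 →
      Good ⊤ S := fun e m h2 h3 h4 => by
    refine Or.inr (seven_of (le_trans ?_ h4))
    refine (card_le_of_conj (Z := X) (y := c) fun s hs => x3 s hs c hc).trans (Nat.mul_le_mul ?_ h3)
    rw [hk] at hd ⊢
    refine Nat.pow_le_pow_right hr.pos (not_lt.1 fun h5 => h2 ((pow_dvd_pow r h5).trans hd))
  have le : Nat.card ↥(S ⊓ centralizer {c}) ≤ Nat.card (centralizer ({c} : Set 𝒢)) := card_le_of_le inf_le_right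
  have e : 86775571046077562880 = 2 ^ 21 * (3 ^ 3 * (5 ^ 1 * (7 ^ 1 * (11 ^ 3 * (23 ^ 1 * (29 ^ 1 * (31 ^ 1 *
    (37 ^ 1 * 43 ^ 1)))))))) := by norm_num
  have kq : ∀ {q n : ℕ}, q.Prime → r ∣ q ^ n → r = q := fun hq h =>
    (Nat.prime_dvd_prime_iff_eq hr hq).1 (hr.dvd_of_dvd_pow h)
  have big : r ∈ [23, 29, 31, 37, 43] → Good ⊤ S := fun h => by
    have h2 := le.trans (cent_of ho (lc.cp r h)).le
    simp only [List.mem_cons, List.not_mem_nil, or_false] at h
    rcases h with rfl | rfl | rfl | rfl | rfl <;> exact key 1 _ (by norm_num) h2 (by norm_num)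
  rw [e] at hr'
  simp only [hr.dvd_mul] at hr'
  rcases hr' with h | h | h | h | h | h | h | h | h | h <;> obtain rfl := kq (by norm_num) h
  · exact (no_two hS (coatom as hS hm) x2 hX (x1.trans inf_le_left) (le_normalizer_of_conj x3)).elim
  · refine key 3 1330560 (by norm_num) ?_ (by norm_num)
    obtain ⟨j, hj⟩ := card_dvd_of_le (inf_le_right : S ⊓ centralizer {c} ≤ _)
    rw [cent_three ho] at hj
    have h2 : j ≠ 1 := by
      rintro rfl
      refine not_dvd hS (Dvd.dvd.trans ?_ (card_dvd_of_le (inf_le_left : S ⊓ centralizer {c} ≤ _)))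
      rw [mul_one] at hj
      rw [← hj]
      norm_num
    have h3 : j ≠ 0 := by
      rintro rfl
      omega
    have : Nat.card ↥(S ⊓ centralizer {c}) * 2 ≤ Nat.card ↥(S ⊓ centralizer {c}) * j := Nat.mul_le_mul_left _ (by omega)
    omega
  · exact key 1 _ (by norm_num) (le.trans (cent_of ho lc.c5).le) (by norm_num)
  · exact key 1 _ (by norm_num) (le.trans (cent_of ho lc.c7).le) (by norm_num)
  · exact key 3 _ (by norm_num) (le.trans (cent_eleven ho)) (by norm_num)
  all_goals exact big (by simp)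

end Cfsg.Agent.SB.SporA.J4

namespace Cfsg.Agent.SB.SporA

open Cfsg

/-- **The row of the fourth Janko group.** -/
theorem row_J4 (K : Type*) [Group K] (h : Spor.IsoJ4 K) : Row K := by
  obtain ⟨e⟩ := h
  have := H860.JM.simple_J
  exact Row.of_equiv e (row_of_top H860.JM.nonab S2068.result J4.rowIn)

end Cfsg.Agent.SB.SporA
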