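import Cfsg.Agent.SB.SporA.Tool
import Cfsg.Agent.H210.ON3.Cent
import Cfsg.Agent.KFacts.ON.OneClass
import Cfsg.Agent.SevenCases.TabFin
import Cfsg.Agent.S2078

/-!
# S5765, the row of the O'Nan group (helper46)

A solvable subgroup `S` has order at most 69120: `|S| ≤ (|X| - 1) |C_S(z)|` for a minimal normal subgroup `X ∋ z`.
-/

set_option autoImplicit false

namespace Cfsg.Agent.SB.SporA.ONan

open Subgroup Cfsg Cfsg.Agent.H786.FC Cfsg.Agent.SB.Mon Cfsg.Agent.SB.SporD
open Cfsg.Spor (ON)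
open Cfsg.Agent.KFacts.ON.Cent (hON finite_ON)
open Cfsg.Agent.H474.ONC (card_ON card_cent_five card_cent_eleven)
open Cfsg.Agent.H210.ON3 (card_cent_of_isConj)

theorem prime_dvd {p : ℕ} (hp : p.Prime) (h : p ∣ 460815505920) :
    p = 2 ∨ p = 3 ∨ p = 5 ∨ p = 7 ∨ p = 11 ∨ p = 19 ∨ p = 31 := by
  have e : 460815505920 = 2 ^ 9 * (3 ^ 4 * (5 ^ 1 * (7 ^ 3 * (11 ^ 1 * (19 ^ 1 * 31 ^ 1))))) := by norm_num
  have k : ∀ {q n : ℕ}, q.Prime → p ∣ q ^ n → p = q := fun hq h =>
    (Nat.prime_dvd_prime_iff_eq hp hq).1 (hp.dvd_of_dvd_pow h)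
  rw [e] at h
  simp only [hp.dvd_mul] at h
  rcases h with h | h | h | h | h | h | h
  · exact Or.inl (k (by norm_num) h)
  · exact Or.inr (Or.inl (k (by norm_num) h))
  · exact Or.inr (Or.inr (Or.inl (k (by norm_num) h)))
  · exact Or.inr (Or.inr (Or.inr (Or.inl (k (by norm_num) h))))
  · exact Or.inr (Or.inr (Or.inr (Or.inr (Or.inl (k (by norm_num) h)))))
  · exact Or.inr (Or.inr (Or.inr (Or.inr (Or.inr (Or.inl (k (by norm_num) h))))))
  · exact Or.inr (Or.inr (Or.inr (Or.inr (Or.inr (Or.inr (k (by norm_num) h))))))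

theorem c2 {y : ON} (hy : orderOf y = 2) : Nat.card (centralizer ({y} : Set ON)) = 161280 := by
  have h1 : y * y = 1 := by rw [← pow_two, ← hy, pow_orderOf_eq_one]
  rw [card_cent_of_isConj (KFacts.ON.OneClass.one_class h1 fun e => by simp [e] at hy), KFacts.ON.Cent.card_cent]

theorem c3 {y : ON} (hy : orderOf y = 3) : Nat.card (centralizer ({y} : Set ON)) = 3240 := by
  obtain ⟨z, -, hz, hc⟩ := H210.On7.exists_three
  rw [card_cent_of_isConj (hz y hy), hc]

theorem c7 {y : ON} (hy : orderOf y = 7) : Nat.card (centralizer ({y} : Set ON)) ∣ 1372 := by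
  have := finite_ON
  obtain ⟨a, d, hd, h⟩ := H210.ON3.shape7 hy
  rcases Nat.eq_zero_or_pos a with rfl | ha
  · rw [h, pow_zero, one_mul]
    exact (pow_dvd_pow 7 hd).trans (by norm_num)
  · obtain ⟨t, ht, h1⟩ := H474.ONC.exists_comm (x := y) Nat.prime_two
      (h ▸ (dvd_pow_self 2 ha.ne').mul_right _)
    rw [card_cent_of_isConj (H210.ON3.conj_x7 hy ht h1), H210.ON3.card_x7]

theorem cent_le {y : ON} (hp : (orderOf y).Prime) : Nat.card (centralizer ({y} : Set ON)) ≤ 161280 := by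
  have h := orderOf_dvd_natCard y
  rw [card_ON] at h
  rcases prime_dvd hp h with h | h | h | h | h | h | h
  · rw [c2 h]
  · rw [c3 h]; norm_num
  · rw [card_cent_five h]; norm_num
  · exact (Nat.le_of_dvd (by norm_num) (c7 h)).trans (by norm_num)
  · rw [card_cent_eleven h]; norm_num
  · rw [H210.On7.card_cent_nineteen h]; norm_num
  · rw [(H210.On7.thirtyone h).1]; norm_num

theorem dvd_of_not {n a q : ℕ} (hq : q.Prime) (h : n ∣ a * q) (h1 : ¬ q ∣ n) : n ∣ a :=
  ((Nat.Prime.coprime_iff_not_dvd hq).2 h1).symm.dvd_of_dvd_mul_right h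

/-- solvable subgroups of order dividing 161280 -/
theorem le_of_dvd {H : Subgroup ON} (hH : Group.IsSolvable H) (h : Nat.card H ∣ 161280) : Nat.card H ≤ 23040 := by
  have := finite_ON
  by_cases h7 : 7 ∣ Nat.card H
  swap
  · exact Nat.le_of_dvd (by norm_num) (dvd_of_not (q := 7) (by norm_num) h h7)
  by_cases h5 : 5 ∣ Nat.card H
  · obtain ⟨n, hn⟩ : 5 * 7 ∣ Nat.card H := Nat.Coprime.mul_dvd_of_dvd_of_dvd (by norm_num) h5 h7
    have h1 : n ∣ 4608 := Nat.dvd_of_mul_dvd_mul_left (k := 5 * 7) (by norm_num) (hn ▸ h)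
    obtain ⟨y, -, hy, h2⟩ := hall_cent hH (q := 5) (by norm_num) hn (Nat.Coprime.coprime_dvd_right h1 (by norm_num))
      (by norm_num) fun d hd e => by
        rcases (Nat.dvd_prime (by norm_num)).1 hd with rfl | rfl <;> omega
    rw [card_cent_five hy] at h2
    norm_num at h2
  have h1 : Nat.card H ∣ 32256 := dvd_of_not (q := 5) (by norm_num) h h5
  by_cases h9 : 9 ∣ Nat.card H
  · obtain ⟨n, hn⟩ : 7 * 9 ∣ Nat.card H := Nat.Coprime.mul_dvd_of_dvd_of_dvd (by norm_num) h7 h9
    have h2 : n ∣ 512 := Nat.dvd_of_mul_dvd_mul_left (k := 7 * 9) (by norm_num) (hn ▸ h1)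
    obtain ⟨y, -, hy, h3⟩ := hall_cent hH (q := 7) (by norm_num) hn (Nat.Coprime.coprime_dvd_right h2 (by norm_num))
      (by norm_num) fun d hd e => by
        have h4 := Nat.le_of_dvd (by norm_num) hd
        interval_cases d <;> omega
    have h4 := h3.trans (Nat.mul_dvd_mul_right (c7 hy) _)
    norm_num at h4
  · obtain ⟨k, hk⟩ := h1
    by_contra h2
    have h3 : k < 2 := by nlinarith
    interval_cases k <;> omega

theorem ab_seven {X : Subgroup ON} (hab : ∀ x ∈ X, ∀ y ∈ X, x * y = y * x) : Nat.card X ≠ 343 := by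
  intro h
  have := finite_ON
  have : Fact (Nat.Prime 7) := ⟨by norm_num⟩
  have hi : ¬ 7 ∣ X.index := by
    have h1 := X.card_mul_index
    rw [h, card_ON] at h1
    omega
  let P : Sylow 7 ON := (IsPGroup.of_card (n := 3) h).toSylow hi
  obtain ⟨Q, hQ⟩ := (IsPGroup.of_card (p := 7) (G := zpowers H210.ON3.B) (n := 1)
    (by rw [Nat.card_zpowers, H210.ON3.order_B, pow_one])).exists_le_sylow
  obtain ⟨g, hg⟩ := MulAction.exists_smul_eq ON Q P
  have h1 : g * H210.ON3.B * g⁻¹ ∈ X := by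
    show _ ∈ (P : Subgroup ON)
    rw [← hg]
    exact ⟨_, hQ (mem_zpowers _), rfl⟩
  have h2 : X ≤ centralizer {g * H210.ON3.B * g⁻¹} := fun x hx => mem_centralizer_singleton_iff.2 (hab x hx _ h1)
  have h3 := card_le_of_le h2
  rw [h, ← card_cent_of_isConj (isConj_iff.2 ⟨g, rfl⟩), H210.ON3.card_B] at h3
  omega

theorem exp_le {p k n : ℕ} (h : p ^ k ∣ 460815505920) (h1 : ¬ p ^ (n + 1) ∣ 460815505920) : k ≤ n := by
  by_contra h2
  exact h1 ((pow_dvd_pow p (by omega)).trans h)

/-- **the solvable subgroups are small** -/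
theorem card_le (S : Subgroup ON) (hS : Group.IsSolvable S) : Nat.card S ≤ 69120 := by
  have := finite_ON
  by_cases h0 : S = ⊥
  · rw [h0, card_bot]; norm_num
  obtain ⟨X, -, hX0, hXn, -, hab, ⟨r, hr, hXr⟩, -⟩ := exists_min hS h0 le_rfl
    fun s hs y hy => mul_mem (mul_mem hs hy) (inv_mem hs)
  have : Fact r.Prime := ⟨hr⟩
  obtain ⟨⟨z, hz⟩, hz1⟩ := ne_bot_iff_exists_ne_one.1 hX0
  have hz1' : z ≠ 1 := fun e => hz1 (Subtype.ext e)
  have ho : orderOf z = r := orderOf_eq_prime (hXr z hz) hz1'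
  obtain ⟨k, hk⟩ := IsPGroup.iff_card.1 (show IsPGroup r X from fun x => ⟨1, Subtype.ext (by simpa using hXr x x.2)⟩)
  have h1 := card_le_sub hXn hz hz1'
  have h2 : Nat.card ↥(S ⊓ centralizer {z}) ∣ Nat.card (centralizer ({z} : Set ON)) := card_dvd_of_le inf_le_right
  have h3 := Nat.le_of_dvd Nat.card_pos h2
  have h4 := card_subgroup_dvd_card X
  have h5 := orderOf_dvd_natCard z
  rw [card_ON] at h4 h5
  rw [hk] at h4
  rw [ho] at h5
  have fin : ∀ {a b : ℕ}, Nat.card X ≤ a + 1 → Nat.card ↥(S ⊓ centralizer {z}) ≤ b → a * b ≤ 69120 →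
      Nat.card S ≤ 69120 := fun ha hb hab => h1.trans ((Nat.mul_le_mul (by omega) hb).trans hab)
  have ex : ∀ {n : ℕ}, ¬ r ^ (n + 1) ∣ 460815505920 → Nat.card X ≤ r ^ n := fun h =>
    hk ▸ Nat.pow_le_pow_right hr.pos (exp_le h4 h)
  rcases prime_dvd hr h5 with rfl | rfl | rfl | rfl | rfl | rfl | rfl
  · rw [c2 ho] at h2
    have h6 : Nat.card X ≤ 2 ^ 3 := SevenLow.ONan.rank hON X ⟨⟨fun a b => Subtype.ext (hab _ a.2 _ b.2)⟩⟩ hXr
    by_cases h7 : Nat.card X ≤ 4
    · exact fin (a := 3) h7 (le_of_dvd (solvable_inf hS _) h2) le_rfl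
    have h8 : Nat.card X = 8 := by
      rw [hk] at h6 h7 ⊢
      have h9 : k ≤ 3 := (Nat.pow_le_pow_iff_right (by norm_num)).1 h6
      interval_cases k <;> omega
    have key : ∀ {q : ℕ}, q.Prime → (q = 5 ∨ q = 7) → (∀ y : ON, orderOf y = q →
        ¬ 8 ∣ Nat.card (centralizer ({y} : Set ON))) → ¬ q ∣ Nat.card ↥(S ⊓ centralizer {z}) := fun hq h h' =>
      not_dvd_of_fix hXn hz hq fun y hy d a b c => by
        rw [ho] at a
        rw [h8] at b ⊢
        have h9 := Nat.le_of_dvd (by norm_num) b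
        have h10 : d ≠ 8 := fun e => h' y hy (e ▸ c)
        interval_cases d <;> rcases h with rfl | rfl <;> omega
    have h9 := key (q := 5) (by norm_num) (.inl rfl) fun y hy => by rw [card_cent_five hy]; norm_num
    have h10 := key (q := 7) (by norm_num) (.inr rfl) fun y hy e => by
      have := e.trans (c7 hy)
      norm_num at this
    exact fin (a := 7) (b := 4608) h8.le (Nat.le_of_dvd (by norm_num)
      (dvd_of_not (q := 5) (by norm_num) (dvd_of_not (a := 23040) (q := 7) (by norm_num) h2 h10) h9)) (by norm_num)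
  · rw [c3 ho] at h2 h3
    by_cases h7 : Nat.card X ≤ 9
    · exact fin (a := 8) h7 h3 (by norm_num)
    have h8 : Nat.card X = 27 ∨ Nat.card X = 81 := by
      rw [hk] at h7 ⊢
      have h9 := exp_le (n := 4) h4 (by norm_num)
      interval_cases k <;> omega
    have h9 := not_dvd_of_fix hXn hz (q := 5) (by norm_num) fun y hy d a b c => by
      rw [ho] at a
      rw [card_cent_five hy] at c
      have h10 : d ∣ 9 := by
        have h11 : d ∣ 81 := by
          rcases h8 with h8 | h8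
          · exact (h8 ▸ b).trans (by norm_num)
          · exact h8 ▸ b
        exact Nat.dvd_gcd h11 c
      have h11 := Nat.le_of_dvd (by norm_num) h10
      interval_cases d <;> omega
    exact fin (a := 80) (b := 648) (by omega) (Nat.le_of_dvd (by norm_num)
      (dvd_of_not (q := 5) (by norm_num) h2 h9)) (by norm_num)
  · rw [card_cent_five ho] at h3
    exact fin (a := 4) (ex (n := 1) (by norm_num)) h3 (by norm_num)
  · refine fin (a := 48) ?_ (h3.trans (Nat.le_of_dvd (by norm_num) (c7 ho))) (by norm_num)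
    have h6 := ab_seven hab
    rw [hk] at h6 ⊢
    have h9 := exp_le (n := 3) h4 (by norm_num)
    interval_cases k <;> omega
  · rw [card_cent_eleven ho] at h3
    exact fin (a := 10) (ex (n := 1) (by norm_num)) h3 (by norm_num)
  · rw [H210.On7.card_cent_nineteen ho] at h3
    exact fin (a := 18) (ex (n := 1) (by norm_num)) h3 (by norm_num)
  · rw [(H210.On7.thirtyone ho).1] at h3
    exact fin (a := 30) (ex (n := 1) (by norm_num)) h3 (by norm_num)

end Cfsg.Agent.SB.SporA.ONan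

namespace Cfsg.Agent.SB.SporA

open Subgroup Cfsg Cfsg.Agent.H786.FC Cfsg.Agent.SB.Mon

/-- **The row of the O'Nan group.** -/
theorem row_ON (K : Type*) [Group K] (h : Spor.IsoON K) : Row K := by
  obtain ⟨e⟩ := h
  refine Row.of_equiv e ?_
  have := KFacts.ON.Cent.finite_ON
  have := KFacts.ON.Cent.hON.1
  refine row_of_small (n := 69120) (c := 161280) (m := 2857239) (fun hc => ?_) S2078.result.le ONan.card_le
    (fun _ => ONan.cent_le) ?_ (by norm_num) ?_ ?_
  · have h1 : (Nat.card Spor.ON).Prime := by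
      let _ : CommGroup Spor.ON := { (inferInstance : Group Spor.ON) with mul_comm := hc.is_comm.comm }
      exact IsSimpleGroup.prime_card
    rw [H474.ONC.card_ON] at h1
    norm_num at h1
  · rw [H474.ONC.card_ON]
  · rw [H474.ONC.card_ON]; norm_num
  · rw [H474.ONC.card_ON]; norm_num

end Cfsg.Agent.SB.SporA
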