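import Cfsg.Agent.SB.SporA.Gen
import Cfsg.Agent.TAB.Use.Defs
import Cfsg.Agent.TAB.ON.Op

/-!
# S5765, sporadic rows from the rational character table (helper58)

The sum of a character over a subgroup `S` is not negative.  A non-negative combination `ψ` of rows with
`M [t = t₀] + ψ t ≤ L` for all the types `t ≠ 1` gives `M * #(S ∩ t₀) ≤ L |S| + ψ 1`.

* `cnt_le` : the bound for the number of the elements of a type in a subgroup;
* `fp_le` : the fixed point ratio;
* `seven_of_chk`, `four_of_chk` : all the subgroups of order at most `B` have `Seven`, `Four`.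
-/

set_option autoImplicit false

namespace Cfsg.Agent.SB.LP

open Subgroup Cfsg Cfsg.Agent.H786.FC Cfsg.Agent.TAB.Eng Cfsg.Agent.TAB.Use Cfsg.Agent.Characters

universe u

/-- a combination of the rows -/
def comb (L : List (List (ℕ × ℤ) × List ℤ)) (y : List ℕ) (t : ℕ) : ℤ :=
  ((y.zip L).map fun p => (p.1 : ℤ) * p.2.2.getD t 0).sum

/-- the rows are characters -/
def posB (R : Rows) : Bool := R.rel.all fun r => r.1.all fun p => decide (p.1 < R.n) && decide (0 ≤ p.2)

/-- a certificate : at most `a` elements have the type `t` -/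
structure Ct where
  t : ℕ
  a : ℕ
  M : ℕ
  L : ℕ
  y : List ℕ

/-- the check of a certificate for the subgroups of order at most `B` -/
def Ct.ok (D : Dat) (R : Rows) (B : ℕ) (c : Ct) : Bool :=
  (List.range D.n).all fun t =>
    if D.ord t = 1 then t != c.t && decide (((c.L * B : ℕ) : ℤ) + comb R.rel c.y t < (c.M * (c.a + 1) : ℕ))
    else decide ((if t = c.t then (c.M : ℤ) else 0) + comb R.rel c.y t ≤ c.L)

/-- not a prime -/
def npB (n : ℕ) : Bool := decide (n ≤ 1) || (List.range n).any fun d => decide (2 ≤ d) && n % d == 0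

theorem not_prime_of_npB {n : ℕ} (h : npB n = true) : ¬ n.Prime := by
  intro hp
  simp only [npB, Bool.or_eq_true, decide_eq_true_eq, List.any_eq_true, List.mem_range, Bool.and_eq_true,
    beq_iff_eq] at h
  rcases h with h | ⟨d, h1, h2, h3⟩
  · exact absurd hp.one_lt (by omega)
  · rcases (Nat.dvd_prime hp).1 (Nat.dvd_of_mod_eq_zero h3) with h | h <;> omega

/-- an upper bound of `|G|` times the fixed point ratio -/
def Ct.u (D : Dat) (c : Ct) : ℕ := c.a * D.N / D.cnt c.t + 1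

/-- the certificates are correct and cover the types of prime order -/
def allB (D : Dat) (R : Rows) (B : ℕ) (C : List Ct) : Bool :=
  posB R && C.all (fun c => c.ok D R B && decide (0 < D.cnt c.t)) &&
    (List.range D.n).all fun t => npB (D.ord t) || C.any fun c => c.t == t

/-- the sum of the `k`-th powers -/
def tot (D : Dat) (C : List Ct) (k : ℕ) : ℕ := (C.map fun c => c.a * c.u D ^ k).sum

variable {G : Type u} [Group G] [Finite G] {D : Dat} {T : TD G D} {R : Rows}

theorem sum_char_nonneg {χ : G → ℂ} (h : IsCharacter G χ) (S : Subgroup G) [Fintype S] :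
    ∃ n : ℕ, ∑ s : S, χ s = n := by
  obtain ⟨n, hn⟩ := Core.classInner_isNat (Core.isCharacter_comp S.subtype h) (Core.isCharacter_one (G := S))
  refine ⟨Nat.card S * n, ?_⟩
  rw [Core.classInner_def, inv_mul_eq_iff_eq_mul₀ Core.card_ne_zero_complex] at hn
  rw [Nat.cast_mul, ← hn]
  simp

theorem sum_row_nonneg (h : Tab T R) (hp : posB R = true) (S : Subgroup G) [Fintype S]
    {r : List (ℕ × ℤ) × List ℤ} (hr : r ∈ R.rel) : 0 ≤ ∑ s : S, r.2.getD (T.ty s) 0 := by
  obtain ⟨χ, hE, hR⟩ := h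
  have key : ∀ c : List (ℕ × ℤ), (∀ p ∈ c, p.1 < R.n ∧ 0 ≤ p.2) →
      ∃ n : ℤ, 0 ≤ n ∧ ∑ s : S, (c.map fun p => (p.2 : ℂ) * χ p.1 s).sum = n := by
    intro c
    induction c with
    | nil => exact fun _ => ⟨0, le_rfl, by simp⟩
    | cons p c ih =>
      intro hc
      obtain ⟨n, h0, hn⟩ := ih fun q hq => hc q (List.mem_cons_of_mem _ hq)
      obtain ⟨h1, h2⟩ := hc p List.mem_cons_self
      obtain ⟨m, hm⟩ := sum_char_nonneg (Core.isIrr_isCharacter (hE.irr _ h1)) S
      refine ⟨p.2 * m + n, by positivity, ?_⟩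
      simp only [List.map_cons, List.sum_cons]
      rw [Finset.sum_add_distrib, hn, ← Finset.mul_sum, hm]
      push_cast
      rfl
  obtain ⟨n, h0, hn⟩ := key r.1 fun p hp' => by
    simpa using List.all_eq_true.1 (List.all_eq_true.1 hp r hr) p hp'
  rw [Finset.sum_congr rfl fun (s : S) _ => hR r hr s] at hn
  have h1 : ∑ s : S, r.2.getD (T.ty s) 0 = n := by exact_mod_cast hn
  rwa [h1]

theorem sum_comb_nonneg (h : Tab T R) (hp : posB R = true) (S : Subgroup G) [Fintype S] (y : List ℕ) :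
    0 ≤ ∑ s : S, comb R.rel y (T.ty s) := by
  have key : ∀ l : List (ℕ × List (ℕ × ℤ) × List ℤ), (∀ p ∈ l, p.2 ∈ R.rel) →
      0 ≤ ∑ s : S, (l.map fun p => (p.1 : ℤ) * p.2.2.getD (T.ty s) 0).sum := by
    intro l
    induction l with
    | nil => exact fun _ => by simp
    | cons p l ih =>
      intro hl
      simp only [List.map_cons, List.sum_cons]
      rw [Finset.sum_add_distrib, ← Finset.mul_sum]
      exact add_nonneg (mul_nonneg (Int.natCast_nonneg _) (sum_row_nonneg h hp S (hl p List.mem_cons_self)))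
        (ih fun q hq => hl q (List.mem_cons_of_mem _ hq))
  exact key _ fun p hp' => (List.of_mem_zip hp').2

/-- the number of the elements of type `t` in `S` -/
noncomputable def cnt (T : TD G D) (S : Subgroup G) (t : ℕ) : ℕ := Nat.card {s : S // T.ty s = t}

/-- **the bound of the linear program** -/
theorem cnt_le (h : Tab T R) (hp : posB R = true) {B : ℕ} {c : Ct} (hc : c.ok D R B = true) {S : Subgroup G}
    (hS : Nat.card S ≤ B) : cnt T S c.t ≤ c.a := by
  classical
  have := Fintype.ofFinite S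
  have h0 := sum_comb_nonneg h hp S c.y
  have h1 := fun g : G => List.all_eq_true.1 hc (T.ty g) (List.mem_range.2 (T.lt g))
  have h2 := h1 1
  rw [← T.ord, orderOf_one, if_pos rfl, Bool.and_eq_true, bne_iff_ne, decide_eq_true_eq] at h2
  have h3 : ∀ s : S, (if T.ty s = c.t then (c.M : ℤ) else 0) + comb R.rel c.y (T.ty s) ≤
      c.L + if s = 1 then comb R.rel c.y (T.ty 1) else 0 := by
    intro s
    by_cases hs : s = 1
    · subst hs
      rw [if_pos rfl, coe_one, if_neg h2.1]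
      exact add_le_add_left (Int.natCast_nonneg _) _
    · have h4 := h1 s
      rw [← T.ord, if_neg fun e => hs (Subtype.ext (orderOf_eq_one_iff.1 e)), decide_eq_true_eq] at h4
      rwa [if_neg hs, add_zero]
  have h4 := Finset.sum_le_sum fun s (_ : s ∈ Finset.univ) => h3 s
  rw [Finset.sum_add_distrib, Finset.sum_add_distrib, Finset.sum_ite_eq', if_pos (Finset.mem_univ _),
    Finset.sum_const, ← Finset.sum_filter, Finset.sum_const, Finset.card_univ, ← Fintype.card_subtype,
    ← Nat.card_eq_fintype_card, ← Nat.card_eq_fintype_card, nsmul_eq_mul, nsmul_eq_mul] at h4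
  have h5 : (Nat.card S : ℤ) * c.L ≤ (c.L * B : ℕ) := by
    rw [mul_comm]
    exact_mod_cast Nat.mul_le_mul_left _ hS
  have h6 : ((c.M * cnt T S c.t : ℕ) : ℤ) < (c.M * (c.a + 1) : ℕ) := by
    rw [Nat.cast_mul, mul_comm]
    unfold cnt
    linarith [h2.2]
  exact Nat.le_of_lt_succ (Nat.lt_of_mul_lt_mul_left (by exact_mod_cast h6))

/-- the fixed point ratio is the same for all the elements of a rational class -/
theorem hits_le (hm : T.Mass) (hr : TAB.ON.Rat T) (S : Subgroup G) (c : G) :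
    D.cnt (T.ty c) * hits ⊤ S c ≤ cnt T S (T.ty c) * D.N := by
  classical
  have := Fintype.ofFinite G
  have h1 : ∀ h : {g : G // T.ty g = T.ty c}, hits ⊤ S c ≤ hits ⊤ S h.1 := by
    intro h
    obtain ⟨k, hk⟩ := hr c h h.2.symm
    obtain ⟨x, hx⟩ := isConj_iff.1 hk
    have h2 := hits_conj (S := S) (c := c ^ k) (mem_top x⁻¹)
    rw [inv_inv, hx] at h2
    rw [h2, ← zpow_natCast]
    exact hits_le_zpow k
  have h2 : D.cnt (T.ty c) * hits ⊤ S c ≤ ∑ h : {g : G // T.ty g = T.ty c}, hits ⊤ S h.1 := by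
    rw [← hm.2 _ (T.lt c), Nat.card_eq_fintype_card, ← Finset.card_univ, ← smul_eq_mul]
    exact Finset.card_nsmul_le_sum _ _ _ fun h _ => h1 h
  refine h2.trans ?_
  unfold hits cnt
  rw [← Nat.card_sigma, ← hm.1, ← Nat.card_prod]
  refine Nat.card_le_card_of_injective (fun p => (⟨⟨_, p.2.2⟩, ?_⟩, p.2.1.1)) ?_
  · have h3 := T.conj p.1.1 (p.2.1.1)⁻¹
    rw [inv_inv] at h3
    exact h3.trans p.1.2
  · rintro ⟨⟨h, hh⟩, ⟨x, hx⟩, h3⟩ ⟨⟨h', hh'⟩, ⟨x', hx'⟩, h3'⟩ e
    simp only [Prod.mk.injEq, Subtype.mk.injEq] at e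
    obtain ⟨e1, rfl⟩ := e
    obtain rfl : h = h' := mul_left_cancel (mul_right_cancel e1)
    rfl

theorem fp_le (hm : T.Mass) (hr : TAB.ON.Rat T) {S : Subgroup G} {g : G} {c : Ct} (hg : T.ty g = c.t)
    (h0 : 0 < D.cnt c.t) (h : cnt T S c.t ≤ c.a) : fp ⊤ S g ≤ (c.u D : ℚ) / Nat.card (⊤ : Subgroup G) := by
  have h1 := hits_le hm hr S g
  rw [hg] at h1
  have h2 : hits ⊤ S g ≤ c.u D := by
    refine le_trans ((Nat.le_div_iff_mul_le h0).2 ?_) (Nat.le_succ _)
    rw [mul_comm]
    exact h1.trans (Nat.mul_le_mul_right _ h)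
  exact div_le_div_of_nonneg_right (by exact_mod_cast h2) (Nat.cast_nonneg _)

omit [Finite G] in
theorem sum_le_of_cover (k : G → ℚ) (W : Ct → ℕ) (C : List Ct) : ∀ P : Finset G,
    (∀ s ∈ P, ∃ c ∈ C, T.ty s = c.t ∧ k s ≤ W c) → (∀ c ∈ C, (P.filter fun s => T.ty s = c.t).card ≤ c.a) →
      ∑ s ∈ P, k s ≤ ((C.map fun c => c.a * W c).sum : ℕ) := by
  classical
  induction C with
  | nil =>
    intro P h _
    rw [Finset.eq_empty_of_forall_notMem (s := P) fun s hs => by simpa using h s hs]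
    simp
  | cons c C ih =>
    intro P h ha
    rw [← Finset.sum_filter_add_sum_filter_not P fun s => T.ty s = c.t ∧ k s ≤ W c, List.map_cons, List.sum_cons,
      Nat.cast_add]
    refine add_le_add ?_ (ih _ (fun s hs => ?_) fun c' hc' => ?_)
    · refine (Finset.sum_le_card_nsmul _ _ (W c : ℚ) fun s hs => (Finset.mem_filter.1 hs).2.2).trans ?_
      rw [nsmul_eq_mul]
      have h1 : (P.filter fun s => T.ty s = c.t ∧ k s ≤ W c).card ≤ c.a := le_trans (Finset.card_le_card fun s hs =>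
        Finset.mem_filter.2 ⟨(Finset.mem_filter.1 hs).1, (Finset.mem_filter.1 hs).2.1⟩) (ha c List.mem_cons_self)
      exact_mod_cast Nat.mul_le_mul_right _ h1
    · obtain ⟨h1, h2⟩ := Finset.mem_filter.1 hs
      obtain ⟨c', h3, h4⟩ := h s h1
      rcases List.mem_cons.1 h3 with rfl | h3
      · exact absurd h4 h2
      · exact ⟨c', h3, h4⟩
    · exact (Finset.card_le_card (Finset.filter_subset_filter _ (Finset.filter_subset _ _))).trans
        (ha c' (List.mem_cons_of_mem _ hc'))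

section

variable (h : Tab T R) (hm : T.Mass) (hr : TAB.ON.Rat T) {B : ℕ} {C : List Ct} (hc : allB D R B C = true)
  {S : Subgroup G} (hS : Nat.card S ≤ B)

include h hm hr hc hS

/-- the fixed point ratios of the elements of prime order -/
theorem exists_ct {g : G} (hg : (orderOf g).Prime) :
    ∃ c ∈ C, T.ty g = c.t ∧ fp ⊤ S g ≤ (c.u D : ℚ) / Nat.card (⊤ : Subgroup G) := by
  simp only [allB, Bool.and_eq_true, List.all_eq_true, decide_eq_true_eq, Bool.or_eq_true, List.any_eq_true,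
    beq_iff_eq, List.mem_range] at hc
  obtain ⟨c, h1, h2⟩ := (hc.2 _ (T.lt g)).resolve_left fun h3 => not_prime_of_npB h3 (T.ord g ▸ hg)
  exact ⟨c, h1, h2.symm, fp_le hm hr h2.symm (hc.1.2 c h1).2 (cnt_le h hc.1.1 (hc.1.2 c h1).1 hS)⟩

theorem sum_fp_le (k : ℕ) :
    (∑ g ∈ primeElts S, fp ⊤ S g ^ k) * (Nat.card (⊤ : Subgroup G) : ℚ) ^ k ≤ tot D C k := by
  classical
  rw [Finset.sum_mul]
  refine sum_le_of_cover (T := T) _ (fun c => c.u D ^ k) C _ (fun s hs => ?_) fun c hc' => ?_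
  · obtain ⟨c, h1, h2, h3⟩ := exists_ct h hm hr hc hS (mem_primeElts.1 hs).2
    refine ⟨c, h1, h2, ?_⟩
    rw [← mul_pow, Nat.cast_pow]
    exact pow_le_pow_left₀ (mul_nonneg (fp_nonneg _ _ _) (Nat.cast_nonneg _)) ((le_div_iff₀ (cardT_pos _)).1 h3) k
  · simp only [allB, Bool.and_eq_true, List.all_eq_true] at hc
    refine le_trans ?_ (cnt_le h hc.1.1 (hc.1.2 c hc').1 hS)
    rw [← Nat.card_eq_finsetCard]
    exact Nat.card_le_card_of_injective (fun s => ⟨⟨s.1, (mem_primeElts.1 (Finset.mem_filter.1 s.2).1).1⟩,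
      (Finset.mem_filter.1 s.2).2⟩) fun a b e => Subtype.ext (congrArg (fun z => z.1.1) e)

/-- **`Seven` for all the subgroups of order at most `B`** -/
theorem seven_of_chk (num : tot D C 4 + 6 * B * B ^ 4 < D.N ^ 4) : Seven ⊤ S := by
  refine seven_of_sum (fp ⊤ S) (fun c _ _ => meet_le_of_fp le_rfl) ?_
  have h1 := sum_fp_le h hm hr hc hS 4
  have h2 : tot D C 4 + 6 * Nat.card S * Nat.card ↥(S ⊓ ⊤) ^ 4 < Nat.card (⊤ : Subgroup G) ^ 4 := by
    rw [inf_top_eq, card_top, hm.1]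
    refine lt_of_le_of_lt ?_ num
    gcongr
  have h3 : (tot D C 4 : ℚ) + 6 * Nat.card S * (Nat.card ↥(S ⊓ ⊤) : ℚ) ^ 4 < (Nat.card (⊤ : Subgroup G) : ℚ) ^ 4 := by
    exact_mod_cast h2
  linarith

/-- **`Four` for all the subgroups of order at most `B`** -/
theorem four_of_chk (num : tot D C 3 < D.N ^ 3) : Four ⊤ S := by
  refine four_of_sum (fp ⊤ S) (fun c _ _ => meet_le_of_fp le_rfl) ?_
  have h1 := sum_fp_le h hm hr hc hS 3
  have h2 : (tot D C 3 : ℚ) < 1 * (Nat.card (⊤ : Subgroup G) : ℚ) ^ 3 := by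
    rw [one_mul, card_top, hm.1]
    exact_mod_cast num
  exact lt_of_mul_lt_mul_right (h1.trans_lt h2) (by positivity)

end

/-- there is no element of order `p q` -/
theorem not_both {S : Subgroup G} (T : TD G D) (hS : Group.IsSolvable S) {p q e : ℕ} (hp : p.Prime) (hq : q.Prime)
    (hpq : p ≠ q) (h2 : ¬ q ^ 2 ∣ Nat.card G) (he : ¬ p ^ (e + 1) ∣ Nat.card G) (h : ∀ j ≤ e, p ^ j % q = 1 → j = 0)
    (hc : ¬ p ∣ q - 1) (ho : ∀ t < D.n, D.ord t ≠ q * p) (h0 : p ∣ Nat.card S) : ¬ q ∣ Nat.card S := by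
  intro h1
  have := Fact.mk hp
  obtain ⟨x, -, hx, h3⟩ := SporA.hall_pq (k := 1) hS hp hq hpq (by rwa [pow_one]) h1
    (fun h3 => h2 (h3.trans (card_subgroup_dvd_card S))) (fun h3 => he (h3.trans (card_subgroup_dvd_card S))) h hc
  rw [pow_one] at h3
  obtain ⟨y, hy⟩ := exists_prime_orderOf_dvd_card' _ h3
  have h4 : Commute x y := (mem_centralizer_singleton_iff.1 y.2.2).symm
  have h5 : orderOf (y : G) = p := by rw [Subgroup.orderOf_coe, hy]
  refine ho _ (T.lt (x * y)) ?_
  rw [← T.ord, h4.orderOf_mul_eq_mul_orderOf_of_coprime (by rw [hx, h5]; exact (Nat.coprime_primes hq hp).2 hpq.symm),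
    hx, h5]

end Cfsg.Agent.SB.LP
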