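import Cfsg.Agent.SB.SporA.LP
import Cfsg.Agent.TAB.Ly.Dat

/-!
# S5765, the row `Ly` from the character table (helper58)

A solvable subgroup has order at most `2 ^ 8 * 3 ^ 7 * 5 ^ 6 * 31`, and every subgroup of at most this order has `Seven`.
-/

set_option autoImplicit false
set_option maxRecDepth 100000

namespace Cfsg.Agent.SB.SporA.Ly

open Subgroup Cfsg Cfsg.Agent.TAB.Eng Cfsg.Agent.TAB.Use Cfsg.Agent.TAB.Ly Cfsg.Agent.SB.LP

/-- the certificates -/
def certs : List Ct :=
  [⟨1, 1606264, 1000000000, 3552, [0, 0, 10555, 22090, 454, 0, 63707, 34448, 43752, 85010, 139318, 174453, 208782,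
    211296, 230085, 383235, 360158, 410720, 354927, 489607, 502752, 585627, 589130, 589130, 685784, 679662, 685784,
    819134, 857320, 0, 0, 0, 211296, 292586, 299271, 299271, 546134, 279356, 538085]⟩,
   ⟨2, 103481, 1000000000, 205, [0, 0, 642, 0, 594, 765, 838, 4015, 1682, 2215, 13517, 11304, 13323, 22973, 19711,
    27714, 21750, 26123, 27106, 27871, 39804, 40226, 38338, 49912, 47122, 46655, 53569, 60640, 69410, 0, 0, 495,
    14044, 18714, 26939, 24293, 41001, 24626, 39933]⟩,
   ⟨3, 36582867, 1000000000, 43216, [0, 0, 0, 33145, 0, 1147015, 1234568, 1437583, 2388254, 2300701, 5306240,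
    5053721, 8746035, 8746035, 9040564, 13447338, 14733324, 14935382, 16140766, 17433702, 18412270, 22018268,
    21165302, 22047452, 25748632, 25946250, 27026976, 31146384, 34542404, 0, 0, 53942, 8746035, 9950775, 13418154,
    12448452, 22135005, 10340916, 20732455]⟩,
   ⟨5, 11239279, 1000000000, 24817, [0, 0, 63341, 0, 67720, 188051, 169756, 446959, 380480, 443822, 888793, 847249,
    1506944, 1606681, 1779574, 2353619, 2859842, 2855555, 3025311, 3204214, 3369109, 3792843, 3872560, 3874284,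
    4769639, 4683623, 4957689, 5658432, 6290304, 9147, 0, 0, 1606681, 1860550, 2276751, 2275027, 3869711, 2135630,
    3708922]⟩,
   ⟨6, 559949734, 1000000000, 1428569, [0, 0, 264472, 0, 0, 3900627, 7663613, 12289687, 12992783, 15631977, 36454772,
    37278891, 57447842, 57447842, 63835619, 96405056, 100724863, 106793195, 107108764, 119562377, 131133939,
    153852898, 148273949, 154161167, 183499226, 180636431, 187399852, 218243400, 237111879, 0, 0, 0, 57447842,
    71878392, 91547189, 86132924, 151328378, 66619692, 145290792]⟩,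
   ⟨10, 271188000000, 1, 1, []⟩, ⟨16, 271188000000, 1, 1, []⟩, ⟨33, 271188000000, 1, 1, []⟩,
   ⟨35, 271188000000, 1, 1, []⟩, ⟨38, 271188000000, 1, 1, []⟩]

theorem ok_certs : allB dat tb 271188000000 certs = true := by decide +kernel

theorem ok_num : tot dat certs 4 + 6 * 271188000000 * 271188000000 ^ 4 < dat.N ^ 4 := by decide +kernel

/-- removing a prime -/
theorem drop {n a p : ℕ} (hp : p.Prime) (h : n ∣ p * a) (h' : ¬ p ∣ n) : n ∣ a :=
  ((Nat.Prime.coprime_iff_not_dvd hp).2 h').symm.dvd_of_dvd_mul_left h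

universe u

variable {G : Type u} [Group G] [Finite G]

theorem card_le (T : TD G dat) (hN : Nat.card G = 51765179004000000) {S : Subgroup G} (hS : Group.IsSolvable S) :
    Nat.card S ≤ 271188000000 := by
  have h0 := card_subgroup_dvd_card S
  have key : ∀ p q e : ℕ, p.Prime → q.Prime → (p ≠ q ∧ ¬ q ^ 2 ∣ 51765179004000000 ∧ ¬ p ^ (e + 1) ∣ 51765179004000000 ∧
      (∀ j ≤ e, p ^ j % q = 1 → j = 0) ∧ ¬ p ∣ q - 1 ∧ ∀ t < dat.n, dat.ord t ≠ q * p) → q ∣ Nat.card S →
      ¬ p ∣ Nat.card S := fun p q e hp hq h h1 h2 =>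
    not_both T hS hp hq h.1 (hN ▸ h.2.1) (hN ▸ h.2.2.1) h.2.2.2.1 h.2.2.2.2.1 h.2.2.2.2.2 h2 h1
  rw [hN] at h0
  generalize Nat.card S = n at h0 key
  have p5 : Nat.Prime 5 := by norm_num
  have p7 : Nat.Prime 7 := by norm_num
  have p11 : Nat.Prime 11 := by norm_num
  have p31 : Nat.Prime 31 := by norm_num
  have p37 : Nat.Prime 37 := by norm_num
  have p67 : Nat.Prime 67 := by norm_num
  have d5 : ∀ {a : ℕ}, ¬ 5 ∣ n → n ∣ 5 ^ 6 * a → n ∣ a := fun h h' =>
    (((Nat.Prime.coprime_iff_not_dvd p5).2 h).symm.pow_right 6).dvd_of_dvd_mul_left h'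
  have big : ¬ 5 ∣ n → ¬ 31 ∣ n → n ≤ 271188000000 := fun h5 h31 =>
    (Nat.le_of_dvd (by norm_num) (drop (a := 106870046976) p31 (d5 (a := 3312971456256) h5 h0) h31)).trans
      (by norm_num)
  by_cases h67 : 67 ∣ n
  · exact big (key 5 67 6 p5 p67 (by decide +kernel) h67) (key 31 67 1 p31 p67 (by decide +kernel) h67)
  by_cases h37 : 37 ∣ n
  · exact big (key 5 37 6 p5 p37 (by decide +kernel) h37) (key 31 37 1 p31 p37 (by decide +kernel) h37)
  have h1 : n ∣ 20881476000000 := drop p37 (drop (a := 772614612000000) p67 h0 h67) h37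
  by_cases h31 : 31 ∣ n
  · exact Nat.le_of_dvd (by norm_num) (drop p11 (drop (a := 2983068000000) p7 h1
      (key 7 31 1 p7 p31 (by decide +kernel) h31)) (key 11 31 1 p11 p31 (by decide +kernel) h31))
  have h2 : n ∣ 673596000000 := drop p31 h1 h31
  by_cases h11 : 11 ∣ n
  · exact (Nat.le_of_dvd (by norm_num) (drop (a := 96228000000) p7 h2
      (key 7 11 1 p7 p11 (by decide +kernel) h11))).trans (by norm_num)
  · exact (Nat.le_of_dvd (by norm_num) (drop (a := 61236000000) p11 h2 h11)).trans (by norm_num)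

/-- every solvable subgroup has `Seven` -/
theorem seven {T : TD G dat} (hm : T.Mass) (hr : TAB.ON.Rat T) (h : Tab T tb) {S : Subgroup G}
    (hS : Group.IsSolvable S) : Seven ⊤ S :=
  seven_of_chk h hm hr ok_certs (card_le T hm.1 hS) ok_num

/-- **the row of a group with the table of `Ly`** -/
theorem row_of [IsSimpleGroup G] (ho : Nat.card (Out G) = 1)
    (h : ∃ T : TD G dat, T.Mass ∧ TAB.ON.Rat T ∧ Tab T tb) : Row G := by
  obtain ⟨T, hm, hr, h⟩ := h
  exact row_of_top (Mon.nc_of_card (by rw [hm.1]; decide +kernel)) ho fun S hS _ => Or.inr (seven hm hr h hS)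

end Cfsg.Agent.SB.SporA.Ly
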